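import Cfsg.Agent.Lib.Perm.FrobSystem.Basic
import Cfsg.Agent.Lib.LocalEven.BenderTransitive.Main
import Cfsg.Agent.Lib.Perm.ZGroup.Basic
import Cfsg.Agent.S0205

/-!
# The action of the group on the cosets of a Frobenius-system subgroup

Counting the involutions exchanging two points shows that the kernel is regular on the other
points, so the group is a Zassenhaus group, simple if it has no solvable normal subgroup.
-/

set_option autoImplicit false
set_option linter.style.haveILetI false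

namespace CfsgLib.Perm.FrobSystem

open MulAction

variable {G : Type*} [Group G] [Finite G] {M F : Subgroup G} (h : Sys M F)
  (h2 : 2 ∣ Nat.card F)
  (hcomm : ∃ x y : G, orderOf x = 2 ∧ orderOf y = 2 ∧ x ≠ y ∧ Commute x y)

/-- The base point. -/
local notation "pt" => ((1 : G) : G ⧸ M)

omit [Finite G] in
theorem smul_pt {g : G} : g • pt = pt ↔ g ∈ M := by
  rw [← mem_stabilizer_iff, stabilizer_quotient]

omit [Finite G] in
theorem exists_move (y : G ⧸ M) : ∃ g : G, g • pt = y := by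
  obtain ⟨g, rfl⟩ := QuotientGroup.mk_surjective y
  exact ⟨g, by rw [Quotient.smul_mk, smul_eq_mul, mul_one]⟩

omit [Finite G] in
theorem notMem_of_ne {g : G} {y : G ⧸ M} (hy : y ≠ pt) (hg : g • pt = y) : g ∉ M :=
  fun hgM => hy (hg.symm.trans (smul_pt.mpr hgM))

omit [Finite G] in
theorem orderOf_conj' (g x : G) : orderOf (g⁻¹ * x * g) = orderOf x := by
  have := MulEquiv.orderOf_eq (MulAut.conj g⁻¹) x
  rwa [MulAut.conj_apply, inv_inv] at this

omit [Finite G] in
theorem conj_fix {g x : G} {y : G ⧸ M} (hg : g • pt = y) (hx : x • y = y) :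
    g⁻¹ * x * g ∈ M := by
  rw [← smul_pt, mul_smul, mul_smul, hg, hx, ← hg, inv_smul_smul]

include h in
theorem free_F {u : G} (hu : u ∈ F) {y : G ⧸ M} (hy : y ≠ pt) (hux : u • y = y) : u = 1 := by
  obtain ⟨g, hg⟩ := exists_move y
  exact h.inter_conj (g := g⁻¹) (fun e => notMem_of_ne hy hg (by simpa using e)) hu
    (by simpa using conj_fix hg hux)

include h h2 in
theorem invol_fixed {s : G} (hs : orderOf s = 2) {x y : G ⧸ M} (hx : s • x = x) (hy : s • y = y) :
    x = y := by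
  obtain ⟨g, hg⟩ := exists_move x
  have hs' : orderOf (g⁻¹ * s * g) = 2 := by
    rw [← hs]
    simpa using MulEquiv.orderOf_eq (MulAut.conj g⁻¹) s
  have hF := h.invol_mem h2 (conj_fix hg hx) hs'
  by_contra hne
  have hy' : g⁻¹ • y ≠ pt := fun e => hne (by rw [← hg, ← e, smul_inv_smul])
  have := free_F h hF hy' (by rw [mul_smul, mul_smul, smul_inv_smul, hy])
  rw [this, orderOf_one] at hs'
  norm_num at hs'

include h h2 hcomm in
theorem pretransitive_stab {y z : G ⧸ M} (hy : y ≠ pt) (hz : z ≠ pt) : ∃ g ∈ M, g • y = z := by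
  obtain ⟨g₁, hg₁⟩ := exists_move y
  obtain ⟨g₂, hg₂⟩ := exists_move z
  obtain ⟨k, hk, e⟩ := CfsgLib.LocalEven.BenderTransitive.exists_smul_mem (h.stronglyEmbedded h2)
    hcomm g₁ g₂ (notMem_of_ne hy hg₁) (notMem_of_ne hz hg₂)
  refine ⟨k, hk, ?_⟩
  rw [← hg₁, ← hg₂]
  calc k • g₁ • pt = g₂ • (g₂⁻¹ * (k * g₁)) • pt := by
        rw [smul_smul, smul_smul, mul_inv_cancel_left]
    _ = _ := by rw [smul_pt.mpr e]

include h h2 hcomm in
theorem two_pretransitive : IsMultiplyPretransitive G (G ⧸ M) 2 := by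
  rw [is_two_pretransitive_iff]
  intro x y z w hxy hzw
  obtain ⟨g₁, hg₁⟩ := exists_move x
  obtain ⟨g₂, hg₂⟩ := exists_move z
  obtain ⟨k, hk, e⟩ := pretransitive_stab h h2 hcomm (y := g₁⁻¹ • y) (z := g₂⁻¹ • w)
    (fun e => hxy (by rw [← hg₁, ← e, smul_inv_smul]))
    (fun e => hzw (by rw [← hg₂, ← e, smul_inv_smul]))
  refine ⟨g₂ * k * g₁⁻¹, ?_, ?_⟩
  · rw [mul_smul, mul_smul, ← hg₁, inv_smul_smul, smul_pt.mpr hk, hg₂]
  · rw [mul_smul, mul_smul, e, smul_inv_smul]

include h h2 hcomm in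
theorem exists_pair_in : ∃ x y : G, x ∈ M ∧ y ∈ M ∧ orderOf x = 2 ∧ orderOf y = 2 ∧ x ≠ y := by
  classical
  haveI : Fact (Nat.Prime 2) := ⟨Nat.prime_two⟩
  obtain ⟨x, y, hx, hy, hne, hc⟩ := hcomm
  obtain ⟨z, hzM, hz⟩ := CfsgLib.Involution.Basic.exists_involution_of_even M
    (even_iff_two_dvd.mpr (h2.trans (Subgroup.card_dvd_of_le h.le)))
  have hodd : ¬ 2 ∣ M.index := fun hd => by
    -- an involution of `M` fixes only the base point
    letI := Fintype.ofFinite (G ⧸ M)
    have hmod := (CfsgLib.Involution.Basic.isPGroup_zpowers_of_two hz).card_modEq_card_fixedPoints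
      (G ⧸ M)
    have h1 : fixedPoints (Subgroup.zpowers z) (G ⧸ M) = {pt} := by
      ext w
      refine ⟨fun hw => invol_fixed h h2 hz (hw ⟨z, Subgroup.mem_zpowers z⟩) (smul_pt.mpr hzM), ?_⟩
      rintro rfl ⟨g, hg⟩
      exact smul_pt.mpr ((Subgroup.zpowers_le.mpr hzM) hg)
    rw [h1, Nat.card_coe_set_eq, Set.ncard_singleton, ← Subgroup.index_eq_card] at hmod
    have h0 := Nat.mod_eq_zero_of_dvd hd
    rw [Nat.ModEq, h0] at hmod
    norm_num at hmod
  let P : Sylow 2 M := default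
  obtain ⟨Q, hQ⟩ := (P.isPGroup'.map M.subtype).exists_le_sylow
  have hQeq : (Q : Subgroup G) = (P : Subgroup M).map M.subtype := by
    refine (Subgroup.eq_of_le_of_card_ge hQ ?_).symm
    rw [Subgroup.card_map_of_injective M.subtype_injective, Q.card_eq_multiplicity,
      P.card_eq_multiplicity]
    refine Nat.pow_le_pow_right two_pos (le_of_eq ?_)
    rw [← M.index_mul_card, Nat.factorization_mul (Subgroup.index_ne_zero_of_finite)
      Nat.card_pos.ne', Finsupp.coe_add, Pi.add_apply,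
      Nat.factorization_eq_zero_of_not_dvd hodd, zero_add]
  have hQM : (Q : Subgroup G) ≤ M := by rw [hQeq]; exact Subgroup.map_subtype_le _
  obtain ⟨g, hgx, hgy⟩ := CfsgLib.Involution.Basic.exists_conj_pair_mem Q hx hy hc
  exact ⟨_, _, hQM hgx, hQM hgy, (MulEquiv.orderOf_eq (MulAut.conj g) x).trans hx,
    (MulEquiv.orderOf_eq (MulAut.conj g) y).trans hy, fun e => hne ((MulAut.conj g).injective e)⟩

include h h2 hcomm in
/-- The counting argument. -/
theorem counting {b : G ⧸ M} (hb : b ≠ pt) :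
    Nat.card F + 1 = Nat.card (G ⧸ M) ∧
    1 < Nat.card ↥(stabilizer G pt ⊓ stabilizer G b) ∧
    (∀ z z' : G, z ∈ M → orderOf z = 2 → z' ∈ M → orderOf z' = 2 → ∃ m ∈ M, m * z * m⁻¹ = z') ∧
    ∃ t : G, orderOf t = 2 ∧ t • pt = b ∧
      ∀ d : G, d • pt = pt → d • b = b → t * d * t⁻¹ = d⁻¹ := by
  classical
  haveI := two_pretransitive h h2 hcomm
  letI := Fintype.ofFinite (G ⧸ M)
  letI := Fintype.ofFinite G
  set n := Fintype.card (G ⧸ M) with hn
  set D : Subgroup G := stabilizer G pt ⊓ stabilizer G b with hD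
  let I := {s : G // orderOf s = 2}
  let j := Nat.card {s : I // (s : G) • pt = pt}
  let k := Nat.card {s : I // (s : G) • pt = b}
  have hDF : ∀ u ∈ F, u ∈ D → u = 1 := fun u hu huD => free_F h hu hb huD.2
  -- the orbit of `M`
  have hM : (n - 1) * Nat.card D = Nat.card M := by
    have horb : orbit M b = {pt}ᶜ := by
      ext y
      refine ⟨?_, fun hy => ?_⟩
      · rintro ⟨g, rfl⟩ (e : (g : G) • b = pt)
        exact hb (MulAction.injective (g : G) (e.trans (smul_pt.mpr g.2).symm))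
      · obtain ⟨g, hg, e⟩ := pretransitive_stab h h2 hcomm hb hy
        exact ⟨⟨g, hg⟩, e⟩
    have e1 := index_stabilizer M b
    rw [horb, Set.ncard_compl, Set.ncard_singleton, Nat.card_eq_fintype_card, ← hn] at e1
    have e2 : Nat.card (stabilizer M b) = Nat.card D :=
      Nat.card_congr
        { toFun := fun g => ⟨(g.1 : G), smul_pt.mpr g.1.2, g.2⟩
          invFun := fun d => ⟨⟨d.1, smul_pt.mp d.2.1⟩, d.2.2⟩
          left_inv := fun _ => rfl
          right_inv := fun _ => rfl }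
    rw [← e1, ← e2, Subgroup.index_mul_card]
  have hDodd : ¬ 2 ∣ Nat.card D := fun hd => by
    obtain ⟨t, ht, ht2⟩ :=
      CfsgLib.Involution.Basic.exists_involution_of_even D (even_iff_two_dvd.mpr hd)
    exact hb (invol_fixed h h2 ht2 ht.2 ht.1)
  have hnodd : Odd n := by
    have h3 : 2 ∣ (n - 1) * Nat.card D := hM ▸ h2.trans (Subgroup.card_dvd_of_le h.le)
    have h4 : 2 ∣ n - 1 := (Nat.prime_two.dvd_mul.mp h3).resolve_right hDodd
    have h5 : 1 < n := Fintype.one_lt_card_iff.mpr ⟨b, pt, hb⟩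
    exact ⟨(n - 1) / 2, by omega⟩
  have hfix : ∀ s : I, ∃ x : G ⧸ M, (s : G) • x = x := by
    intro s
    haveI : Fact (Nat.Prime 2) := ⟨Nat.prime_two⟩
    obtain ⟨w, hw⟩ := (CfsgLib.Involution.Basic.isPGroup_zpowers_of_two s.2).nonempty_fixed_point_of_prime_not_dvd_card
      (G ⧸ M) (by rw [Nat.card_eq_fintype_card, ← hn]; obtain ⟨i, hi⟩ := hnodd; omega)
    exact ⟨w, hw ⟨_, Subgroup.mem_zpowers _⟩⟩
  -- conjugation
  have hconj : ∀ (g : G) (s : I), orderOf (g * s.1 * g⁻¹) = 2 := fun g s =>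
    (MulEquiv.orderOf_eq (MulAut.conj g) s.1).trans s.2
  have hmove : ∀ (g : G) (x y : G ⧸ M), Nat.card {s : I // (s : G) • x = y} =
      Nat.card {s : I // (s : G) • (g • x) = g • y} := fun g x y => Nat.card_congr
    { toFun := fun s => ⟨⟨g * s.1.1 * g⁻¹, hconj g s.1⟩, by
        show (g * s.1.1 * g⁻¹) • g • x = g • y
        rw [mul_smul, mul_smul, inv_smul_smul, s.2]⟩
      invFun := fun s => ⟨⟨g⁻¹ * s.1.1 * g⁻¹⁻¹, hconj g⁻¹ s.1⟩, by
        show (g⁻¹ * s.1.1 * g⁻¹⁻¹) • x = y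
        rw [inv_inv, mul_smul, mul_smul, s.2, inv_smul_smul]⟩
      left_inv := fun s => Subtype.ext (Subtype.ext (by simp [mul_assoc]))
      right_inv := fun s => Subtype.ext (Subtype.ext (by simp [mul_assoc])) }
  have htot : Nat.card I = n * j := by
    have e : (Σ x : G ⧸ M, {s : I // (s : G) • x = x}) ≃ I :=
      Equiv.ofBijective (fun p => p.2.1) ⟨fun p q e => by
        obtain ⟨x, s, hs⟩ := p
        obtain ⟨y, t, ht⟩ := q
        obtain rfl : s = t := e
        obtain rfl := invol_fixed h h2 s.2 hs ht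
        rfl, fun s => by
        obtain ⟨x, hx⟩ := hfix s
        exact ⟨⟨x, s, hx⟩, rfl⟩⟩
    rw [← Nat.card_congr e, Nat.card_sigma, Finset.sum_congr rfl fun x _ => ?_, Finset.sum_const,
      Finset.card_univ, smul_eq_mul]
    obtain ⟨g, rfl⟩ := exists_move x
    exact (hmove g pt pt).symm
  have hjk : j = k := by
    let T := {p : I × (G ⧸ M) // (p.1 : G) • p.2 ≠ p.2}
    have eA : T ≃ Σ s : I, {x : G ⧸ M // (s : G) • x ≠ x} :=
      { toFun := fun p => ⟨p.1.1, p.1.2, p.2⟩
        invFun := fun p => ⟨(p.1, p.2.1), p.2.2⟩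
        left_inv := fun _ => rfl
        right_inv := fun _ => rfl }
    have hA : Nat.card T = Nat.card I * (n - 1) := by
      rw [Nat.card_congr eA, Nat.card_sigma, Finset.sum_congr rfl fun s _ => ?_, Finset.sum_const,
        Finset.card_univ, smul_eq_mul, Nat.card_eq_fintype_card]
      obtain ⟨x₀, hx₀⟩ := hfix s
      rw [Nat.card_congr (Equiv.subtypeEquivRight (q := fun x => x ≠ x₀) fun x =>
        ⟨fun hx e => hx (e ▸ hx₀), fun hx e => hx (invol_fixed h h2 s.2 e hx₀)⟩),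
        Nat.card_eq_fintype_card, Fintype.card_subtype_compl, Fintype.card_subtype_eq, ← hn]
    have eB : T ≃ Σ q : {q : (G ⧸ M) × (G ⧸ M) // q.1 ≠ q.2}, {s : I // (s : G) • q.1.1 = q.1.2} :=
      { toFun := fun p => ⟨⟨(p.1.2, (p.1.1 : G) • p.1.2), fun e => p.2 e.symm⟩, p.1.1, rfl⟩
        invFun := fun p => ⟨(p.2.1, p.1.1.1), fun e => p.1.2 (e.symm.trans p.2.2)⟩
        left_inv := fun _ => rfl
        right_inv := fun p => by
          obtain ⟨⟨⟨x, y⟩, hxy⟩, s, (hs : (s : G) • x = y)⟩ := p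
          subst hs
          rfl }
    have hB : Nat.card T = n * (n - 1) * k := by
      rw [Nat.card_congr eB, Nat.card_sigma, Finset.sum_congr rfl fun q _ => ?_, Finset.sum_const,
        Finset.card_univ, smul_eq_mul]
      · congr 1
        rw [Fintype.card_subtype, hn, Nat.mul_sub_one, ← Finset.card_univ, ← Finset.offDiag_card]
        congr 1
        ext ⟨x, y⟩
        simp
      · obtain ⟨g, h1, h2'⟩ := is_two_pretransitive_iff.mp (inferInstance : IsMultiplyPretransitive G (G ⧸ M) 2) (Ne.symm hb) q.2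
        rw [← h1, ← h2']
        exact (hmove g pt b).symm
    rw [hA, htot, mul_assoc, mul_comm j, ← mul_assoc] at hB
    have h5 : 1 < n := Fintype.one_lt_card_iff.mpr ⟨b, pt, hb⟩
    exact Nat.eq_of_mul_eq_mul_left (mul_pos (by omega) (by omega)) hB
  -- inequalities
  obtain ⟨x₁, x₂, hx₁M, hx₂M, hx₁, hx₂, hx12⟩ := exists_pair_in h h2 hcomm
  have hj2 : 1 < j := Finite.one_lt_card_iff_nontrivial.mpr
    ⟨⟨⟨⟨x₁, hx₁⟩, smul_pt.mpr hx₁M⟩, ⟨⟨x₂, hx₂⟩, smul_pt.mpr hx₂M⟩,
      fun e => hx12 (congrArg (fun s => (s.1.1 : G)) e)⟩⟩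
  have hx₁F := h.invol_mem h2 hx₁M hx₁
  have hx₁1 : x₁ ≠ 1 := fun e => by rw [e, orderOf_one] at hx₁; norm_num at hx₁
  have hclass : ∀ (x : G) (hxM : x ∈ M) (hx : orderOf x = 2),
      ∃ f : M → {s : I // (s : G) • pt = pt} × F, Function.Injective f ∧
        ∀ g : M, ((f g).1.1 : G) = (g : G) * x * (g : G)⁻¹ := by
    intro x hxM hx
    have hxF := h.invol_mem h2 hxM hx
    have hx1 : x ≠ 1 := fun e => by rw [e, orderOf_one] at hx; norm_num at hx
    let c : M → {s : I // (s : G) • pt = pt} := fun g =>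
      ⟨⟨(g : G) * x * (g : G)⁻¹, hconj g ⟨x, hx⟩⟩,
        smul_pt.mpr (mul_mem (mul_mem g.2 hxM) (inv_mem g.2))⟩
    let r := Function.invFun c
    have hr : ∀ g : M, ((r (c g) : G))⁻¹ * g ∈ F := fun g => by
      have e : c (r (c g)) = c g := Function.invFun_eq ⟨g, rfl⟩
      have e' : (r (c g) : G) * x * (r (c g) : G)⁻¹ = (g : G) * x * (g : G)⁻¹ :=
        congrArg (fun s => s.1.1) e
      refine h.mem_of_comm hxF hx1 ?_
      calc x * ((r (c g) : G)⁻¹ * g)
          = (r (c g) : G)⁻¹ * ((r (c g) : G) * x * (r (c g) : G)⁻¹) * g := by group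
        _ = _ := by rw [e']; group
    refine ⟨fun g => (c g, (⟨_, hr g⟩ : F)), fun g g' e => ?_, fun g => rfl⟩
    have e1 : c g = c g' := congrArg Prod.fst e
    have e2 : ((r (c g) : G))⁻¹ * g = ((r (c g') : G))⁻¹ * g' :=
      congrArg (fun q => (q.2 : G)) e
    rw [e1] at e2
    exact Subtype.ext (mul_left_cancel e2)
  have hjge : Nat.card M ≤ j * Nat.card F := by
    obtain ⟨f, hf, -⟩ := hclass x₁ hx₁M hx₁
    rw [← Nat.card_prod]
    exact Nat.card_le_card_of_injective f hf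
  have hDle : Nat.card D * Nat.card F ≤ Nat.card M := by
    rw [← Nat.card_prod]
    refine Nat.card_le_card_of_injective
      (fun q => (⟨(q.1 : G) * q.2, mul_mem (smul_pt.mp q.1.2.1) (h.le q.2.2)⟩ : M)) fun q q' e => ?_
    have e' : (q.1 : G) * q.2 = q'.1 * q'.2 := congrArg Subtype.val e
    have e2 : (q'.1 : G)⁻¹ * q.1 = q'.2 * (q.2 : G)⁻¹ := by
      rw [eq_mul_inv_iff_mul_eq, mul_assoc, e', inv_mul_cancel_left]
    have := hDF _ (mul_mem q'.2.2 (inv_mem q.2.2)) (e2 ▸ mul_mem (inv_mem q'.1.2) q.1.2)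
    rw [this, inv_mul_eq_one] at e2
    rw [mul_inv_eq_one] at this
    exact Prod.ext (Subtype.ext e2.symm) (Subtype.ext this.symm)
  obtain ⟨⟨⟨t, ht⟩, (htb : t • pt = b)⟩⟩ : Nonempty {s : I // (s : G) • pt = b} :=
    (Nat.card_pos_iff.mp (hjk ▸ by omega : 0 < k)).1
  have htt : t * t = 1 := by rw [← pow_two, ← ht, pow_orderOf_eq_one]
  have htp : t • b = pt := by rw [← htb, smul_smul, htt, one_smul]
  let ι : {s : I // (s : G) • pt = b} → D := fun s => ⟨t * s.1.1, by
    refine ⟨show (t * s.1.1) • pt = pt by rw [mul_smul, s.2, htp], show (t * s.1.1) • b = b from ?_⟩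
    have hss : s.1.1 * s.1.1 = 1 := by
      have := pow_orderOf_eq_one s.1.1
      rwa [s.1.2, pow_two] at this
    have hsb : s.1.1 • b = pt :=
      (congrArg (s.1.1 • ·) s.2).symm.trans (by rw [smul_smul, hss, one_smul])
    rw [mul_smul, hsb, htb]⟩
  have hιinj : Function.Injective ι := fun s s' e =>
    Subtype.ext (Subtype.ext (mul_left_cancel (congrArg Subtype.val e)))
  have hkD : k ≤ Nat.card D := Nat.card_le_card_of_injective ι hιinj
  have hkeq : k = Nat.card D := le_antisymm hkD (by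
    rw [← hjk]
    exact Nat.le_of_mul_le_mul_right (hDle.trans hjge) Nat.card_pos)
  have hFn : Nat.card F = n - 1 := by
    have h6 : Nat.card D * Nat.card F = (n - 1) * Nat.card D := by
      rw [hM]
      refine le_antisymm hDle (hjge.trans (le_of_eq ?_))
      rw [hjk, hkeq]
    exact Nat.eq_of_mul_eq_mul_left Nat.card_pos (h6.trans (mul_comm _ _))
  have hone : ∀ z z' : G, z ∈ M → orderOf z = 2 → z' ∈ M → orderOf z' = 2 →
      ∃ m ∈ M, m * z * m⁻¹ = z' := by
    intro z z' hzM hz hz'M hz'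
    obtain ⟨f, hf, hf1⟩ := hclass z hzM hz
    have hb' : Function.Bijective f := by
      letI := Fintype.ofFinite M
      letI := Fintype.ofFinite ({s : I // (s : G) • pt = pt} × F)
      refine (Fintype.bijective_iff_injective_and_card f).mpr ⟨hf, ?_⟩
      rw [← Nat.card_eq_fintype_card, ← Nat.card_eq_fintype_card, Nat.card_prod]
      exact le_antisymm hjge (le_of_eq_of_le (by rw [← hkeq, ← hjk]) hDle)
    obtain ⟨m, hm⟩ := hb'.2 (⟨⟨z', hz'⟩, smul_pt.mpr hz'M⟩, 1)
    exact ⟨m, m.2, by rw [← hf1, hm]⟩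
  refine ⟨by rw [Nat.card_eq_fintype_card (α := G ⧸ M), ← hn, hFn]; have : 0 < n := Fintype.card_pos_iff.mpr ⟨b⟩; omega, by rw [← hkeq, ← hjk]; exact hj2,
    hone, t, ht, htb, fun d hd1 hd2 => ?_⟩
  have hsurj : Function.Surjective ι := by
    letI := Fintype.ofFinite {s : I // (s : G) • pt = b}
    letI := Fintype.ofFinite D
    refine ((Fintype.bijective_iff_injective_and_card ι).mpr ⟨hιinj, ?_⟩).2
    rw [← Nat.card_eq_fintype_card, ← Nat.card_eq_fintype_card]
    exact hkeq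
  obtain ⟨s, hs⟩ := hsurj ⟨d, hd1, hd2⟩
  have hs' : t * s.1.1 = d := congrArg Subtype.val hs
  have hss : s.1.1 * s.1.1 = 1 := by
    have := pow_orderOf_eq_one s.1.1
    rwa [s.1.2, pow_two] at this
  rw [← hs', mul_inv_rev, inv_eq_of_mul_eq_one_left hss, inv_eq_of_mul_eq_one_left htt]
  calc t * (t * s.1.1) * t = (t * t) * s.1.1 * t := by group
    _ = _ := by rw [htt, one_mul]

include h h2 hcomm in
/-- The group is a simple Zassenhaus group with regular kernel `F`. -/
theorem exists_setup (hR : ∀ N : Subgroup G, N.Normal → Group.IsSolvable N → N = ⊥) :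
    IsSimpleGroup G ∧ ∃ b : G ⧸ M, ∃ S : ZGroup.Setup G (G ⧸ M) pt b, S.F = F := by
  classical
  haveI h2t := two_pretransitive h h2 hcomm
  letI := Fintype.ofFinite (G ⧸ M)
  obtain ⟨g₀, hg₀⟩ : ∃ g, g ∉ M := by
    by_contra hc
    push Not at hc
    exact h.ne_top (eq_top_iff.mpr fun g _ => hc g)
  have hb₀ : g₀ • pt ≠ pt := fun e => hg₀ (smul_pt.mp e)
  set b := g₀ • pt with hbdef
  obtain ⟨hcard, hD1, hconjM, t, ht, htb, hinv⟩ := counting h h2 hcomm hb₀
  -- regularity
  have hFp : ∀ u ∈ F, u • pt = pt := fun u hu => smul_pt.mpr (h.le hu)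
  have hreg : ∀ y z : G ⧸ M, y ≠ pt → z ≠ pt → ∃! u : F, (u : G) • y = z := by
    intro y z hy hz
    let f : F → {w : G ⧸ M // w ≠ pt} := fun u => ⟨(u : G) • y, fun e =>
      hy (MulAction.injective (u : G) (e.trans (hFp u u.2).symm))⟩
    have hinj : Function.Injective f := fun u w e => Subtype.ext <|
      (inv_mul_eq_one.mp (free_F h (mul_mem (inv_mem w.2) u.2) hy (by
        rw [mul_smul, show (u : G) • y = (w : G) • y from congrArg Subtype.val e,
          inv_smul_smul]))).symm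
    letI := Fintype.ofFinite F
    have hbij : Function.Bijective f := (Fintype.bijective_iff_injective_and_card f).mpr ⟨hinj, by
      rw [Fintype.card_subtype_compl, Fintype.card_subtype_eq, ← Nat.card_eq_fintype_card,
        ← Nat.card_eq_fintype_card]
      omega⟩
    obtain ⟨u, hu⟩ := hbij.2 ⟨z, hz⟩
    exact ⟨u, congrArg Subtype.val hu, fun w hw => hbij.1 ((Subtype.ext hw).trans hu.symm)⟩
  have hfree : ∀ g : G, ∀ c : G ⧸ M, c ≠ pt → c ≠ b → g • pt = pt → g • b = b → g • c = c →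
      g = 1 := by
    intro g c hc hcb hga hgb hgc
    obtain ⟨u, hu, -⟩ := hreg b c hb₀ hc
    have hg' : g * (u : G) * g⁻¹ = u := inv_mul_eq_one.mp (free_F h
      (mul_mem (inv_mem (h.norm g (smul_pt.mp hga) u u.2)) u.2) hb₀ (by
        rw [mul_smul, hu, inv_smul_eq_iff, mul_smul, mul_smul, inv_smul_eq_iff.mpr hgb.symm, hu, hgc]))
    have hu1 : (u : G) ≠ 1 := fun e => hcb (by rw [← hu, e, one_smul])
    exact free_F h (h.mem_of_comm u.2 hu1 (mul_inv_eq_iff_eq_mul.mp hg').symm) hb₀ hgb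
  have hfree3 : ∀ g : G, ∀ x y z : G ⧸ M, x ≠ y → y ≠ z → x ≠ z → g • x = x → g • y = y →
      g • z = z → g = 1 := by
    intro g x y z hxy hyz hxz hx hy hz
    obtain ⟨k, hkx, hky⟩ := is_two_pretransitive_iff.mp h2t hxy (Ne.symm hb₀)
    have hk : ∀ w : G ⧸ M, g • w = w → (k * g * k⁻¹) • (k • w) = k • w := fun w hw => by
      rw [mul_smul, mul_smul, inv_smul_smul, hw]
    have := hfree (k * g * k⁻¹) (k • z)
      (fun e => hxz (MulAction.injective k (hkx.trans e.symm)))
      (fun e => hyz (MulAction.injective k (hky.trans e.symm)))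
      (hkx ▸ hk x hx) (hky ▸ hk y hy) (hk z hz)
    exact conj_eq_one_iff.mp this
  have h3 : ∃ c : G ⧸ M, c ≠ pt ∧ c ≠ b := by
    have hF2 : 2 ≤ Nat.card F := Nat.le_of_dvd Nat.card_pos h2
    by_contra hc
    push Not at hc
    have : Fintype.card (G ⧸ M) ≤ ({pt, b} : Finset (G ⧸ M)).card :=
      Finset.card_le_card (s := Finset.univ) fun w _ => by
        by_cases hw : w = pt
        · simp [hw]
        · simp [hc w hw]
    have := Finset.card_le_two (a := pt) (b := b)
    rw [Nat.card_eq_fintype_card (α := G ⧸ M)] at hcard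
    omega
  haveI hfaith : FaithfulSMul G (G ⧸ M) := by
    refine ⟨fun {g g'} e => ?_⟩
    obtain ⟨c, hc, hcb⟩ := h3
    refine (inv_mul_eq_one.mp (hfree (g⁻¹ * g') c hc hcb ?_ ?_ ?_)) <;>
      rw [mul_smul, ← e, inv_smul_smul]
  haveI : IsPretransitive G (G ⧸ M) := MulAction.isPretransitive_quotient G M
  haveI hprim : IsPreprimitive G (G ⧸ M) := isPreprimitive_of_is_two_pretransitive h2t
  haveI : Nontrivial G := ⟨g₀, 1, fun e => hg₀ (e ▸ one_mem M)⟩
  haveI : IsSimpleGroup G := by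
    refine ⟨fun N hN => or_iff_not_imp_left.mpr fun hN1 => ?_⟩
    haveI := hN
    haveI htr : IsPretransitive N (G ⧸ M) := IsQuasiPreprimitive.isPretransitive_of_normal (N := N) (by
      intro hfix
      refine hN1 (eq_bot_iff.mpr fun x hx => Subgroup.mem_bot.mpr ?_)
      refine FaithfulSMul.eq_of_smul_eq_smul (α := G ⧸ M) fun w => ?_
      rw [one_smul]
      exact (Set.eq_univ_iff_forall.mp hfix w) ⟨x, hx⟩)
    have heven : Even (Nat.card N) := by
      rw [← Nat.not_odd_iff_even]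
      exact fun hodd => hN1 (hR N hN (Cfsg.Agent.S0205.result hodd))
    obtain ⟨z, hzN, hz⟩ := CfsgLib.Involution.Basic.exists_involution_of_even N heven
    have hdN : ∀ d : G, d • pt = pt → d • b = b → d ∈ N := by
      intro d hd1 hd2
      have htd : (t * d) * (t * d) = 1 := by
        have e := hinv d hd1 hd2
        have hti : t⁻¹ = t := inv_eq_of_mul_eq_one_left (by rw [← pow_two, ← ht, pow_orderOf_eq_one])
        calc t * d * (t * d) = (t * d * t⁻¹) * d := by rw [hti]; group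
          _ = 1 := by rw [e, inv_mul_cancel]
      have hinN : ∀ s : G, orderOf s = 2 → s ∈ N := by
        intro s hs
        have key : ∀ w : G, orderOf w = 2 → ∃ x : G ⧸ M, w • x = x := by
          intro w hw
          haveI : Fact (Nat.Prime 2) := ⟨Nat.prime_two⟩
          obtain ⟨x, hx⟩ := (CfsgLib.Involution.Basic.isPGroup_zpowers_of_two hw).nonempty_fixed_point_of_prime_not_dvd_card
            (G ⧸ M) (by omega)
          exact ⟨x, hx ⟨_, Subgroup.mem_zpowers _⟩⟩
        obtain ⟨x, hx⟩ := key z hz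
        obtain ⟨y, hy⟩ := key s hs
        obtain ⟨g, hg⟩ := exists_move x
        obtain ⟨g', hg'⟩ := exists_move y
        have hz' : g⁻¹ * z * g ∈ M := conj_fix hg hx
        have hs' : g'⁻¹ * s * g' ∈ M := conj_fix hg' hy
        -- all involutions of `M` are conjugate
        obtain ⟨m, hm, hmz⟩ := hconjM (g⁻¹ * z * g) (g'⁻¹ * s * g') hz'
          ((orderOf_conj' g z).trans hz) hs'
          ((orderOf_conj' g' s).trans hs)
        have : s = (g' * m * g⁻¹) * z * (g' * m * g⁻¹)⁻¹ := by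
          calc s = g' * (g'⁻¹ * s * g') * g'⁻¹ := by group
            _ = _ := by rw [← hmz]; group
        rw [this]
        exact hN.conj_mem z hzN _
      have htd1 : t * d ≠ 1 := fun e => hb₀ (by
        have := congrArg (· • pt) e
        simp only [mul_smul, hd1, one_smul] at this
        rw [htb] at this
        exact this)
      have := mul_mem (hinN t ht) (hinN (t * d) (orderOf_eq_prime (by rw [pow_two, htd]) htd1))
      rwa [← mul_assoc, show t * t = 1 by rw [← pow_two, ← ht, pow_orderOf_eq_one], one_mul] at this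
    obtain ⟨d, hd1⟩ : ∃ d : ↥(stabilizer G pt ⊓ stabilizer G b), d ≠ 1 := by
      haveI := Finite.one_lt_card_iff_nontrivial.mp hD1
      exact exists_ne 1
    have hd1' : (d : G) ≠ 1 := fun e => hd1 (Subtype.ext e)
    have hdM : (d : G) ∈ M := smul_pt.mp d.2.1
    have hFN : ∀ u ∈ F, u ∈ N := by
      let f : F → F := fun u =>
        ⟨(u : G) * ((d : G) * (u : G)⁻¹ * (d : G)⁻¹), mul_mem u.2 (h.norm _ hdM _ (inv_mem u.2))⟩
      have hinj : Function.Injective f := fun u w e => by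
        have e' : (u : G) * ((d : G) * (u : G)⁻¹ * (d : G)⁻¹) = w * ((d : G) * (w : G)⁻¹ * (d : G)⁻¹) :=
          congrArg Subtype.val e
        refine Subtype.ext (inv_mul_eq_one.mp (by_contra fun hne => hd1' ?_)).symm
        refine free_F h (h.mem_of_comm (mul_mem (inv_mem w.2) u.2) hne ?_) hb₀ d.2.2
        have e2 := congrArg (fun q => (w : G)⁻¹ * q * ((d : G) * u)) e'
        simpa [mul_assoc] using e2
      intro u hu
      obtain ⟨w, hw⟩ := Finite.injective_iff_surjective.mp hinj ⟨u, hu⟩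
      have hw' : (w : G) * ((d : G) * (w : G)⁻¹ * (d : G)⁻¹) = u := congrArg Subtype.val hw
      rw [← hw', show (w : G) * ((d : G) * (w : G)⁻¹ * (d : G)⁻¹) =
        ((w : G) * (d : G) * (w : G)⁻¹) * (d : G)⁻¹ by group]
      exact mul_mem (hN.conj_mem _ (hdN d d.2.1 d.2.2) w) (inv_mem (hdN d d.2.1 d.2.2))
    have hMN : ∀ g ∈ M, g ∈ N := by
      intro g hg
      have hgb : g • b ≠ pt := fun e => hb₀ (MulAction.injective g (e.trans (smul_pt.mpr hg).symm))
      obtain ⟨u, hu, -⟩ := hreg b (g • b) hb₀ hgb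
      have := mul_mem (hFN u u.2) (hdN ((u : G)⁻¹ * g)
        (smul_pt.mpr (mul_mem (inv_mem (h.le u.2)) hg)) (by rw [mul_smul, ← hu, inv_smul_smul]))
      rwa [mul_inv_cancel_left] at this
    refine eq_top_iff.mpr fun g _ => ?_
    obtain ⟨x, hx⟩ := htr.exists_smul_eq pt (g • pt)
    have := mul_mem x.2 (hMN ((x : G)⁻¹ * g) (smul_pt.mp (by
      rw [mul_smul, inv_smul_eq_iff]; exact hx.symm)))
    rwa [mul_inv_cancel_left] at this
  refine ⟨inferInstance, b, ⟨⟨hfaith, h2t, hfree3, ?_, ?_⟩, hb₀.symm, F, ?_, ?_, hreg⟩, rfl⟩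
  · obtain ⟨d, hd⟩ : ∃ d : ↥(stabilizer G pt ⊓ stabilizer G b), d ≠ 1 := by
      haveI := Finite.one_lt_card_iff_nontrivial.mp hD1
      exact exists_ne 1
    exact ⟨d, fun e => hd (Subtype.ext e), pt, b, hb₀.symm, d.2.1, d.2.2⟩
  · intro N hN htr
    refine ⟨pt, fun hbot => ?_⟩
    rcases hN.eq_bot_or_eq_top with rfl | rfl
    · obtain ⟨x, hx⟩ := htr.exists_smul_eq pt b
      have hx1 : (x : G) = 1 := Subgroup.mem_bot.mp x.2
      have hx' : (x : G) • pt = b := hx
      rw [hx1, one_smul] at hx'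
      exact hb₀ hx'.symm
    · obtain ⟨u, hu, hu1⟩ := h.exists_ne_one
      exact hu1 (congrArg Subtype.val ((Subgroup.eq_bot_iff_forall _).mp hbot
        ⟨u, Subgroup.mem_top u⟩ (hFp u hu)))
  · exact fun u hu => hFp u hu
  · exact ⟨fun u hu g => h.norm g (smul_pt.mp g.2) u hu⟩

end CfsgLib.Perm.FrobSystem
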