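import Mathlib
import Cfsg.Prelude.Def_Involutions
import Cfsg.Agent.Lib.Involution.Basic

/-!
# A subgroup with a Frobenius-like kernel meeting its conjugates trivially

`M` is a proper subgroup with a non-trivial normal subgroup `F` on which the elements outside `F`
act without fixed points, and which meets its conjugates outside `M` trivially.
-/

set_option autoImplicit false

namespace CfsgLib.Perm.FrobSystem

variable {G : Type*} [Group G]

/-- The hypotheses on the pair `(M, F)`. -/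
structure Sys (M F : Subgroup G) : Prop where
  le : F ≤ M
  norm : ∀ g ∈ M, ∀ u ∈ F, g * u * g⁻¹ ∈ F
  fpf : ∀ x ∈ M, x ∉ F → ∀ u ∈ F, u * x = x * u → u = 1
  ti : ∀ g : G, g ∉ M → ∀ u ∈ F, g * u * g⁻¹ ∈ F → u = 1
  ne_bot : F ≠ ⊥
  ne_top : M ≠ ⊤

namespace Sys

variable {M F : Subgroup G} (h : Sys M F)
include h

theorem mem_of_fusion {g u : G} (hu : u ∈ F) (hu1 : u ≠ 1) (hg : g * u * g⁻¹ ∈ F) : g ∈ M :=
  by_contra fun hgM => hu1 (h.ti g hgM u hu hg)

theorem mem_of_comm {y u : G} (hu : u ∈ F) (hu1 : u ≠ 1) (hy : u * y = y * u) : y ∈ F := by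
  have hyM : y ∈ M := h.mem_of_fusion hu hu1 (by rwa [← hy, mul_inv_cancel_right])
  by_contra hyF
  exact hu1 (h.fpf y hyM hyF u hu hy)

theorem exists_ne_one : ∃ u ∈ F, u ≠ 1 :=
  F.bot_or_exists_ne_one.resolve_left h.ne_bot

theorem conjF (g : M) (u : F) : (g : G) * u * (g : G)⁻¹ ∈ F := h.norm g g.2 u u.2

variable [Finite G]

/-- `F` is a Hall subgroup of `M`. -/
theorem hall {p k : ℕ} [Fact p.Prime] (hpF : p ∣ Nat.card F) {y : G} (hyM : y ∈ M)
    (hy : orderOf y = p ^ k) : y ∈ F := by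
  classical
  let F' : Subgroup M := F.subgroupOf M
  haveI hF' : F'.Normal := ⟨fun n hn g => h.norm g g.2 n hn⟩
  have hy' : orderOf (⟨y, hyM⟩ : M) = p ^ k := by rw [← hy, ← Subgroup.orderOf_coe]
  obtain ⟨P, hP⟩ := (CfsgLib.Involution.Basic.isPGroup_zpowers hy').exists_le_sylow
  have hyP : (⟨y, hyM⟩ : M) ∈ (P : Subgroup M) := hP (Subgroup.mem_zpowers _)
  obtain ⟨x, hx⟩ := exists_prime_orderOf_dvd_card' (G := F') p
    (by rwa [Nat.card_congr (Subgroup.subgroupOfEquivOfLe h.le).toEquiv])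
  obtain ⟨c, hc⟩ := CfsgLib.Involution.Basic.exists_conj_le P
    (CfsgLib.Involution.Basic.isPGroup_zpowers (p := p) (k := 1) (x := (x : M))
      (by rw [Subgroup.orderOf_coe, hx, pow_one]))
  let N : Subgroup (P : Subgroup M) := F'.subgroupOf P
  haveI : N.Normal := Subgroup.Normal.subgroupOf hF' _
  letI : MulAction (P : Subgroup M) N :=
    MulAction.compHom N (MulAut.conjNormal (H := N) : (P : Subgroup M) →* MulAut N)
  let x' : N := ⟨⟨c * x * c⁻¹, hc x (Subgroup.mem_zpowers _)⟩, hF'.conj_mem x x.2 c⟩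
  have hdvd : p ∣ Nat.card N := by
    refine (dvd_of_eq ?_).trans (orderOf_dvd_natCard x')
    rw [← Subgroup.orderOf_coe x', ← Subgroup.orderOf_coe (x' : (P : Subgroup M))]
    exact hx.symm.trans ((Subgroup.orderOf_coe x).symm.trans
      (MulEquiv.orderOf_eq (MulAut.conj c) (x : M)).symm)
  obtain ⟨w, hw, hw1⟩ := P.isPGroup'.exists_fixed_point_of_prime_dvd_card_of_fixed_point N hdvd
    (a := 1) (fun g => map_one (MulAut.conjNormal g : MulAut N))
  by_contra hyF
  have e : (MulAut.conjNormal (⟨⟨y, hyM⟩, hyP⟩ : (P : Subgroup M)) : MulAut N) w = w := hw _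
  have e' := congrArg (fun n : N => (((n : (P : Subgroup M)) : M) : G)) e
  simp only [MulAut.conjNormal_apply, Subgroup.coe_mul, Subgroup.coe_inv] at e'
  refine hw1 (Subtype.ext (Subtype.ext (Subtype.ext ?_)))
  refine (h.fpf y hyM hyF _ w.2 ?_).symm
  exact (mul_inv_eq_iff_eq_mul.mp e').symm

/-- With two commuting involutions in `M`, the kernel has even order. -/
theorem even_kernel {x y : G} (hxM : x ∈ M) (hyM : y ∈ M) (hx : orderOf x = 2) (hy : orderOf y = 2)
    (hne : x ≠ y) (hc : Commute x y) : 2 ∣ Nat.card F := by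
  classical
  by_contra hodd
  have key : ∀ z : G, orderOf z = 2 → z ∈ M → z ∉ F ∧ ∀ u ∈ F, z * u * z⁻¹ = u⁻¹ := by
    intro z hz hzM
    have hzF : z ∉ F := fun e => hodd (hz ▸ F.orderOf_dvd_natCard e)
    refine ⟨hzF, ?_⟩
    have hzz : z * z = 1 := by rw [← pow_two, ← hz, pow_orderOf_eq_one]
    have hzi : z⁻¹ = z := inv_eq_of_mul_eq_one_right hzz
    let φ : F → F := fun u => ⟨(u : G)⁻¹ * (z * u * z⁻¹), mul_mem (inv_mem u.2) (h.norm z hzM u u.2)⟩
    have hinj : Function.Injective φ := fun u w e => by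
      have e' : (u : G)⁻¹ * (z * u * z⁻¹) = (w : G)⁻¹ * (z * w * z⁻¹) := congrArg Subtype.val e
      have hd : ((w : G) * (u : G)⁻¹) * z = z * ((w : G) * (u : G)⁻¹) := by
        have e2 := congrArg (fun t => (w : G) * t * (z * (u : G)⁻¹)) e'
        simp only [mul_assoc, inv_mul_cancel_left, mul_inv_cancel_left] at e2
        simpa [mul_assoc] using e2
      exact Subtype.ext (mul_inv_eq_one.mp
        (h.fpf z hzM hzF _ (mul_mem w.2 (inv_mem u.2)) hd)).symm
    intro u hu
    obtain ⟨w, hw⟩ := Finite.injective_iff_surjective.mp hinj ⟨u, hu⟩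
    have hw' : (w : G)⁻¹ * (z * w * z⁻¹) = u := congrArg Subtype.val hw
    rw [← hw', hzi]
    calc z * ((w : G)⁻¹ * (z * w * z)) * z = z * (w : G)⁻¹ * z * w * (z * z) := by group
      _ = _ := by rw [hzz, mul_one, mul_inv_rev, mul_inv_rev, mul_inv_rev, inv_inv, hzi]; group
  obtain ⟨hxF, hxi⟩ := key x hx hxM
  obtain ⟨hyF, hyi⟩ := key y hy hyM
  have hxyF : x * y ∉ F := fun e => by
    have hyy : y * y = 1 := by rw [← pow_two, ← hy, pow_orderOf_eq_one]
    have hxy1 : x * y ≠ 1 := fun e1 => hne (by rw [← mul_one x, ← hyy, ← mul_assoc, e1, one_mul])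
    have hord : orderOf (x * y) = 2 := orderOf_eq_prime (by
      rw [hc.mul_pow, ← hx, pow_orderOf_eq_one, one_mul, hx, ← hy, pow_orderOf_eq_one]) hxy1
    exact hodd (hord ▸ F.orderOf_dvd_natCard e)
  obtain ⟨u, hu, hu1⟩ := h.exists_ne_one
  refine hu1 (h.fpf _ (mul_mem hxM hyM) hxyF u hu ?_)
  have e : x * y * u * (x * y)⁻¹ = u := by
    calc x * y * u * (x * y)⁻¹ = x * (y * u * y⁻¹) * x⁻¹ := by group
      _ = u := by rw [hyi u hu, hxi _ (inv_mem hu), inv_inv]
  exact (mul_inv_eq_iff_eq_mul.mp e).symm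

variable (h2 : 2 ∣ Nat.card F)
include h2

theorem invol_mem {z : G} (hzM : z ∈ M) (hz : orderOf z = 2) : z ∈ F :=
  haveI : Fact (Nat.Prime 2) := ⟨Nat.prime_two⟩
  h.hall (k := 1) h2 hzM (by rw [hz, pow_one])

omit h2 in
/-- An element of `F` whose conjugate by an outside element lies in `M` is trivial. -/
theorem inter_conj {g u : G} (hg : g ∉ M) (hu : u ∈ F) (hgu : g * u * g⁻¹ ∈ M) : u = 1 := by
  classical
  by_contra hu1
  set p := (orderOf u).minFac with hp
  have hne : orderOf u ≠ 1 := fun e => hu1 (orderOf_eq_one_iff.mp e)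
  haveI : Fact p.Prime := ⟨Nat.minFac_prime hne⟩
  set v := u ^ (orderOf u / p) with hv
  have hpd : p ∣ orderOf u := Nat.minFac_dvd _
  have hvo : orderOf v = p := orderOf_pow_orderOf_div (orderOf_pos u).ne' hpd
  have hvF : v ∈ F := pow_mem hu _
  have hpF : p ∣ Nat.card F :=
    hvo ▸ F.orderOf_dvd_natCard hvF
  have hgv : g * v * g⁻¹ ∈ M := by
    rw [hv, ← conj_pow]
    exact pow_mem hgu _
  have h3 : g * v * g⁻¹ ∈ F := h.hall (k := 1) hpF hgv (by
    rw [← MulAut.conj_apply, MulEquiv.orderOf_eq, hvo, pow_one])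
  have := h.ti g hg v hvF h3
  rw [this, orderOf_one] at hvo
  exact (Nat.Prime.ne_one Fact.out) hvo.symm

/-- `M` is strongly embedded. -/
theorem stronglyEmbedded : Cfsg.IsStronglyEmbedded M := by
  haveI : Fact (Nat.Prime 2) := ⟨Nat.prime_two⟩
  refine ⟨h.ne_top, even_iff_two_dvd.mpr (h2.trans (Subgroup.card_dvd_of_le h.le)), fun g hg => ?_⟩
  rw [← Nat.not_even_iff_odd]
  intro he
  obtain ⟨t, htD, ht⟩ := CfsgLib.Involution.Basic.exists_involution_of_even _ he
  obtain ⟨s, hs, hst⟩ := htD.2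
  have hso : orderOf s = 2 := by
    rw [← ht, ← hst]; exact (MulEquiv.orderOf_eq (MulAut.conj g) s).symm
  have hsF := h.invol_mem h2 hs hso
  have := h.ti g hg s hsF (by
    have := h.invol_mem h2 htD.1 ht
    rw [← hst] at this
    exact this)
  rw [this, orderOf_one] at hso
  norm_num at hso

end Sys

end CfsgLib.Perm.FrobSystem
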